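import Cfsg.Agent.E6Fold.Regular
import Cfsg.Agent.E6Fold.Data
import Cfsg.Agent.ChevInvol.CharDiag
import Cfsg.Agent.ChevParabolic.Sylow
import Cfsg.Agent.Chevalley.WeylData
import Cfsg.Agent.ChevSubfield.RootData
import Cfsg.Prelude.Def_LieTwisted

/-!
Three conjugates of `F4(2)` inside `2E6(2)` under a diagonal automorphism of order three.
-/

set_option autoImplicit false

namespace CfsgLib.E6Fold

open Cfsg.Lie CfsgLib CfsgLib.Chevalley
open scoped MatrixGroups

theorem e6_chainOK : ChevTorus.chainOK chevE6 = true := by decide +kernel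

/-- The exponent of the diagonal automorphism at a root. -/
def tripN (r : ℕ) : ℕ :=
  (((chevE6.coroot.getD r #[]).getD 0 0 + 2 * (chevE6.coroot.getD r #[]).getD 5 0) % 3).toNat

/-- The exponent is additive modulo three. -/
def chkTrip : Bool :=
  ((List.range chevE6.nroots).all fun r => (tripN (opp chevE6 r) + tripN r) % 3 == 0) &&
  ((List.range chevE6.nroots).all fun r => (List.range chevE6.nroots).all fun s =>
    match chevE6.chainRoot r s 1 with
    | none => true
    | some k => tripN k % 3 == (tripN r + tripN s) % 3)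

theorem trip_chk : chkTrip = true := by decide +kernel

/-- The fundamental orbits, matched with the words of the twisted group, and the exponents there. -/
theorem trip_gens :
    ((List.range 4).all fun k => (e6Tables.fold (chevE6.simple (e6Tables.nodeRep.getD k 0)) ==
        chevF4.simple k) &&
      (e6Tables.fold (opp chevE6 (chevE6.simple (e6Tables.nodeRep.getD k 0))) ==
        opp chevF4 (chevF4.simple k)) && decide (e6Tables.nodeRep.getD k 0 < 6)) = true ∧
    (∀ k < 4, ∀ b : Bool,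
      let r := gen chevE6 b (e6Tables.nodeRep.getD k 0)
      (e6Tables.root r = r ∧ r ∈ [e6p2, e6m2, e6p4, e6m4]) ∨
        (e6Tables.root r ≠ r ∧
          (r, e6Tables.root r) ∈ [(e6p1, e6p6), (e6m1, e6m6), (e6p3, e6p5), (e6m3, e6m5)])) ∧
    ([e6p2, e6m2, e6p4, e6m4].all fun r => decide (r < chevE6.nroots) && tripN r == 0) = true ∧
    ([(e6p1, e6p6), (e6m1, e6m6), (e6p3, e6p5), (e6m3, e6m5)].all fun rs =>
      decide (rs.1 < chevE6.nroots) && decide (rs.2 < chevE6.nroots) &&
        ((2 * tripN rs.1) % 3 == tripN rs.2 % 3)) = true := by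
  decide +kernel

/-- A linear function of the node values vanishing modulo three on the Cartan matrix. -/
theorem trip_functional : (List.range 6).all (fun k =>
    (([(0, 1), (2, 2), (4, 1), (5, 2)] : List (ℕ × ℤ)).map fun aw =>
      aw.2 * chevE6.cartan k (chevE6.simple aw.1)).sum % 3 == 0) = true ∧
    [0, 2, 4, 5].map (fun a => tripN (chevE6.simple a)) = [1, 0, 0, 2] := by
  decide +kernel

variable {K : Type*} [Field K]

/-- The values of the diagonal automorphism. -/
def tripChi (w : Kˣ) (r : ℕ) : Kˣ := w ^ tripN r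

theorem tripChi_char (w : Kˣ) (h3 : w ^ 3 = 1) : chevE6.IsRootCharacter (tripChi w) := by
  have hW : GoodWeyl chevE6 := goodWeyl_of_mem (by simp)
  have h := trip_chk
  simp only [chkTrip, Bool.and_eq_true, List.all_eq_true, List.mem_range, beq_iff_eq] at h
  refine ⟨fun r hr => ?_, fun r s k hr hs hk => ?_⟩
  · rw [hW.good.neg_eq hr, tripChi, tripChi]
    refine eq_inv_of_mul_eq_one_left ?_
    rw [← pow_add, pow_eq_pow_mod _ h3, h.1 r hr, pow_zero]
  · have := h.2 r hr s hs
    rw [hk] at this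
    simp only [beq_iff_eq] at this
    rw [tripChi, tripChi, tripChi, ← pow_add, pow_eq_pow_mod _ h3, this,
      ← pow_eq_pow_mod _ h3]

/-- The diagonal matrix. -/
def tripDelta (w : Kˣ) : GL chevE6.Idx K where
  val := chevE6.charDiag K (tripChi w)
  inv := chevE6.charDiag K fun r => (tripChi w r)⁻¹
  val_inv := by
    rw [ChevalleyDatum.charDiag, ChevalleyDatum.charDiag, Matrix.diagonal_mul_diagonal,
      ← Matrix.diagonal_one]
    congr 1
    funext a
    rcases a with i | s <;> simp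
  inv_val := by
    rw [ChevalleyDatum.charDiag, ChevalleyDatum.charDiag, Matrix.diagonal_mul_diagonal,
      ← Matrix.diagonal_one]
    congr 1
    funext a
    rcases a with i | s <;> simp

theorem tripDelta_pow_three (w : Kˣ) (h3 : w ^ 3 = 1) : tripDelta w ^ 3 = 1 := by
  apply Units.ext
  rw [Units.val_pow_eq_pow_val]
  show chevE6.charDiag K (tripChi w) ^ 3 = 1
  rw [ChevalleyDatum.charDiag, Matrix.diagonal_pow, ← Matrix.diagonal_one]
  congr 1
  funext a
  rcases a with i | s
  · simp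
  · rw [Pi.pow_apply, Sum.elim_inr, ← Units.val_pow_eq_pow_val, tripChi, pow_right_comm, h3,
      one_pow, Units.val_one]

theorem tripDelta_conj (hW : GoodWeyl chevE6) (w : Kˣ) (h3 : w ^ 3 = 1) (r : Root chevE6) :
    ∀ (m : ℕ) (t : K), tripDelta w ^ m * X hW.good r t * (tripDelta w ^ m)⁻¹ =
      X hW.good r (((tripChi w r : Kˣ) : K) ^ m * t) := by
  intro m
  induction m with
  | zero => simp
  | succ m ih =>
    intro t
    rw [pow_succ', show tripDelta w * tripDelta w ^ m * X hW.good r t *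
        (tripDelta w * tripDelta w ^ m)⁻¹ =
        tripDelta w * (tripDelta w ^ m * X hW.good r t * (tripDelta w ^ m)⁻¹) * (tripDelta w)⁻¹
      by group, ih, pow_succ', mul_assoc ((tripChi w r : Kˣ) : K)]
    apply Units.ext
    rw [Units.val_mul, Units.val_mul, coe_X, coe_X, ← x_eq_xR hW.good, ← x_eq_xR hW.good]
    exact ChevTorus.charDiag_conj_x chevE6 e6_chainOK _ (tripChi_char w h3) r r.isLt _

theorem tripDelta_group (hW : GoodWeyl chevE6) (w : Kˣ) (h3 : w ^ 3 = 1) (m : ℕ)
    {g : GL chevE6.Idx K} (hg : g ∈ chevE6.group K) :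
    tripDelta w ^ m * g * (tripDelta w ^ m)⁻¹ ∈ chevE6.group K := by
  rw [group_eq_closure hW.good] at hg
  induction hg using Subgroup.closure_induction with
  | mem x hx =>
    obtain ⟨r, t, rfl⟩ := hx
    rw [tripDelta_conj hW w h3]
    exact X_mem_group _ _ _
  | one => simp
  | mul a b _ _ ha hb =>
    rw [show tripDelta w ^ m * (a * b) * (tripDelta w ^ m)⁻¹ = (tripDelta w ^ m * a *
      (tripDelta w ^ m)⁻¹) * (tripDelta w ^ m * b * (tripDelta w ^ m)⁻¹) by group]
    exact mul_mem ha hb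
  | inv a _ ha =>
    rw [show tripDelta w ^ m * a⁻¹ * (tripDelta w ^ m)⁻¹ =
      (tripDelta w ^ m * a * (tripDelta w ^ m)⁻¹)⁻¹ by group]
    exact inv_mem ha

theorem word_mem_twisted (hW : GoodWeyl chevE6) {q : ℕ} {t : K} {w : List (ℕ × K)}
    (hw : w ∈ e6Words K q) {g : GL chevE6.Idx K}
    (hg : (g : Matrix chevE6.Idx chevE6.Idx K) = chevE6.wordMat K w) : g ∈ twistedE6 K q :=
  Subgroup.subset_closure ⟨w, hw, hg⟩

theorem single_mem_twisted (hW : GoodWeyl chevE6) {q : ℕ} {r : Root chevE6} {t : K}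
    (hr : (r : ℕ) ∈ [e6p2, e6m2, e6p4, e6m4]) (ht : t ^ q = t) :
    X hW.good r t ∈ twistedE6 K q := by
  refine word_mem_twisted hW (t := t) (w := [((r : ℕ), t)]) (Or.inl ⟨t, ht, r, hr, rfl⟩) ?_
  rw [ChevalleyDatum.wordMat, coe_X, ← x_eq_xR hW.good]
  simp

theorem pair_mem_twisted (hW : GoodWeyl chevE6) {q : ℕ} {r s : Root chevE6} (t : K)
    (hrs : ((r : ℕ), (s : ℕ)) ∈ [(e6p1, e6p6), (e6m1, e6m6), (e6p3, e6p5), (e6m3, e6m5)]) :
    X hW.good r t * X hW.good s (t ^ q) ∈ twistedE6 K q := by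
  refine word_mem_twisted hW (t := t) (w := [((r : ℕ), t), ((s : ℕ), t ^ q)])
    (Or.inr ⟨t, _, hrs, rfl⟩) ?_
  rw [ChevalleyDatum.wordMat, Units.val_mul, coe_X, coe_X, ← x_eq_xR hW.good, ← x_eq_xR hW.good]
  simp

theorem tripDelta_twisted (hW : GoodWeyl chevE6) (w : Kˣ) (h3 : w ^ 3 = 1) (m : ℕ)
    {g : GL chevE6.Idx K} (hg : g ∈ twistedE6 K 2) :
    tripDelta w ^ m * g * (tripDelta w ^ m)⁻¹ ∈ twistedE6 K 2 := by
  induction hg using Subgroup.closure_induction with
  | mem x hx =>
    obtain ⟨l, hl, hx⟩ := hx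
    obtain ⟨-, -, h1, h2⟩ := trip_gens
    simp only [List.all_eq_true, Bool.and_eq_true, decide_eq_true_eq, beq_iff_eq] at h1 h2
    rcases hl with ⟨t, ht, r, hr, rfl⟩ | ⟨t, rs, hrs, rfl⟩
    · obtain ⟨hlt, hn⟩ := h1 r hr
      have e : x = X hW.good ⟨r, hlt⟩ t := by
        refine (coe_eq_x_iff hW.good hlt).1 ?_
        rw [hx, ChevalleyDatum.wordMat]
        simp
      rw [e, tripDelta_conj hW w h3, tripChi, hn, pow_zero, Units.val_one, one_pow, one_mul]
      exact single_mem_twisted hW hr ht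
    · obtain ⟨⟨hl1, hl2⟩, hn⟩ := h2 rs hrs
      have e : x = X hW.good ⟨rs.1, hl1⟩ t * X hW.good ⟨rs.2, hl2⟩ (t ^ 2) := by
        apply Units.ext
        rw [hx, ChevalleyDatum.wordMat, Units.val_mul, coe_X, coe_X, ← x_eq_xR hW.good,
          ← x_eq_xR hW.good]
        simp
      rw [e, show ∀ a b d : GL chevE6.Idx K, d * (a * b) * d⁻¹ = (d * a * d⁻¹) * (d * b * d⁻¹) from
        fun a b d => by group, tripDelta_conj hW w h3, tripDelta_conj hW w h3]
      have hsq : ((tripChi w rs.2 : Kˣ) : K) ^ m * t ^ 2 =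
          (((tripChi w rs.1 : Kˣ) : K) ^ m * t) ^ 2 := by
        have : tripChi w rs.2 = tripChi w rs.1 ^ 2 := by
          rw [tripChi, tripChi, ← pow_mul, pow_eq_pow_mod _ h3, ← hn, mul_comm 2,
            ← pow_eq_pow_mod _ h3]
        rw [this, Units.val_pow_eq_pow_val, mul_pow, ← pow_mul, ← pow_mul, mul_comm 2]
      rw [hsq]
      exact pair_mem_twisted hW _ hrs
  | one => simp
  | mul a b _ _ ha hb =>
    rw [show tripDelta w ^ m * (a * b) * (tripDelta w ^ m)⁻¹ = (tripDelta w ^ m * a *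
      (tripDelta w ^ m)⁻¹) * (tripDelta w ^ m * b * (tripDelta w ^ m)⁻¹) by group]
    exact mul_mem ha hb
  | inv a _ ha =>
    rw [show tripDelta w ^ m * a⁻¹ * (tripDelta w ^ m)⁻¹ =
      (tripDelta w ^ m * a * (tripDelta w ^ m)⁻¹)⁻¹ by group]
    exact inv_mem ha

theorem group_le_closure_gen {D : ChevalleyDatum} {F : Type*} [Field F] (hW : GoodWeyl D)
    {L : Subgroup (GL D.Idx F)}
    (h0 : ∀ (i : Fin D.rank) (t : F) (b : Bool), X hW.good (genR hW.good b i) t ∈ L) :
    D.group F ≤ L := by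
  have hrev : ∀ i, (pRoot hW i).rev = genR hW.good true i := by
    intro i
    apply Fin.ext
    simp [genR, gen, opp, Fin.val_rev]
    omega
  have hn : ∀ i, (nR hW i : GL D.Idx F) ∈ L := fun i =>
    mul_mem (mul_mem (h0 i 1 false) (by rw [hrev]; exact h0 i (-1) true)) (h0 i 1 false)
  have hall : ∀ r : Root D, ∀ t : F, X hW.good r t ∈ L := by
    intro r
    refine hW.root_induction (P := fun r => ∀ t : F, X hW.good r t ∈ L) (fun i t => h0 i t false) ?_ r
    intro i r hr t
    have hh : (eta D i r : F) * eta D i r = 1 := by rw [← Int.cast_mul, hW.eta_sq, Int.cast_one]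
    have := mul_mem (mul_mem (hn i) (hr ((eta D i r : F) * t))) (inv_mem (hn i))
    rwa [nR_conj, ← mul_assoc, hh, one_mul] at this
  rw [group_eq_closure hW.good]
  exact (Subgroup.closure_le _).2 (by rintro _ ⟨r, t, rfl⟩; exact hall r t)

/-- The fixed subgroup is generated by the fundamental orbit root elements. -/
theorem sFix_le_closure_gen {F : Type*} [Field F] [CharP F 2] (hW : GoodWeyl chevE6) :
    sFix e6_valid hW F ≤ Subgroup.closure {g : GL chevE6.Idx F | ∃ r : Root chevE6,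
      (∃ k < 4, ∃ b, (r : ℕ) = gen chevE6 b (e6Tables.nodeRep.getD k 0)) ∧
        ∃ t : F, orbEl e6_valid hW r t = g} := by
  set S := Subgroup.closure {g : GL chevE6.Idx F | ∃ r : Root chevE6,
      (∃ k < 4, ∃ b, (r : ℕ) = gen chevE6 b (e6Tables.nodeRep.getD k 0)) ∧
        ∃ t : F, orbEl e6_valid hW r t = g} with hS
  have hWE : GoodWeyl chevF4 := goodWeyl_of_mem (by simp)
  obtain ⟨C, M, R, h⟩ := ChevSubfield.exists_rootGood (D := chevE6) (by simp)
  have hSle : S ≤ sFix e6_valid hW F := by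
    rw [hS, Subgroup.closure_le]
    rintro _ ⟨r, -, t, rfl⟩
    exact orbEl_mem e6_valid hW r t
  let P : Subgroup (GL chevF4.Idx F) :=
    { carrier := {m | ∃ g ∈ S, (g : Matrix chevE6.Idx chevE6.Idx F) * foldM e6Tables chevE6 chevF4 F =
        foldM e6Tables chevE6 chevF4 F * (m : Matrix chevF4.Idx chevF4.Idx F)}
      one_mem' := ⟨1, one_mem _, by simp⟩
      mul_mem' := by
        rintro a b ⟨g, hg, eg⟩ ⟨g', hg', eg'⟩
        exact ⟨g * g', mul_mem hg hg', by
          rw [Units.val_mul, Units.val_mul, Matrix.mul_assoc, eg', ← Matrix.mul_assoc, eg,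
            Matrix.mul_assoc]⟩
      inv_mem' := by
        rintro a ⟨g, hg, eg⟩
        refine ⟨g⁻¹, inv_mem hg, ?_⟩
        have := congrArg (fun M => ((g⁻¹ : GL chevE6.Idx F) : Matrix chevE6.Idx chevE6.Idx F) * M *
          ((a⁻¹ : GL chevF4.Idx F) : Matrix chevF4.Idx chevF4.Idx F)) eg
        simp only [← Matrix.mul_assoc, ← Units.val_mul, inv_mul_cancel, Units.val_one,
          Matrix.one_mul] at this
        rw [Matrix.mul_assoc (((g⁻¹ : GL chevE6.Idx F) : Matrix chevE6.Idx chevE6.Idx F) * _),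
          ← Units.val_mul, mul_inv_cancel, Units.val_one, Matrix.mul_one] at this
        exact this.symm }
  have hP : chevF4.group F ≤ P := by
    refine group_le_closure_gen hWE fun i t b => ?_
    have hg := trip_gens.1
    simp only [List.all_eq_true, List.mem_range, Bool.and_eq_true, beq_iff_eq,
      decide_eq_true_eq] at hg
    obtain ⟨⟨h1, h2⟩, h3⟩ := hg i i.isLt
    set r := genR hW.good b (⟨_, h3⟩ : Fin chevE6.rank)
    refine ⟨orbEl e6_valid hW r t, Subgroup.subset_closure ⟨r, ⟨i, i.isLt, b, rfl⟩, t, rfl⟩, ?_⟩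
    refine orbEl_foldM e6_valid hW hWE r _ ?_ t
    cases b
    · exact h1.symm
    · exact h2.symm
  rw [sFix, Subgroup.closure_le]
  rintro _ ⟨r, t, rfl⟩
  obtain ⟨s, hs⟩ := exists_fold e6_valid r
  obtain ⟨g, hg, eg⟩ := hP (X_mem_group hWE.good s t)
  suffices orbEl e6_valid hW r t = g from this ▸ hg
  refine eq_of_inv_mul_eq_one (kernel_eq_one e6_valid hW h ?_ hWE ?_)
  · exact mul_mem (inv_mem (orbEl_mem e6_valid hW r t)) (hSle hg)
  · rw [Units.val_mul, Matrix.mul_assoc, eg, ← orbEl_foldM e6_valid hW hWE r s hs t,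
      ← Matrix.mul_assoc, ← Units.val_mul, inv_mul_cancel, Units.val_one, Matrix.one_mul]

variable [CharP K 2]

/-- Extension of scalars from the prime field. -/
noncomputable def primeMap (K : Type*) [Field K] [CharP K 2] :
    GL chevE6.Idx (ZMod 2) →* GL chevE6.Idx K :=
  Matrix.GeneralLinearGroup.map (ZMod.castHom dvd_rfl K)

theorem sFix_map_le_twisted (hW : GoodWeyl chevE6) :
    (sFix e6_valid hW (ZMod 2)).map (primeMap K) ≤ twistedE6 K 2 := by
  rw [Subgroup.map_le_iff_le_comap]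
  refine (sFix_le_closure_gen hW).trans ((Subgroup.closure_le _).2 ?_)
  rintro _ ⟨r, ⟨k, hk, b, hr⟩, t, rfl⟩
  show primeMap K (orbEl e6_valid hW r t) ∈ twistedE6 K 2
  have ht : (ZMod.castHom dvd_rfl K t) ^ 2 = ZMod.castHom dvd_rfl K t := by
    rw [← map_pow, show ∀ x : ZMod 2, x ^ 2 = x by decide]
  rcases trip_gens.2.1 k hk b with ⟨hfix, hmem⟩ | ⟨hfix, hmem⟩ <;> rw [← hr] at hfix hmem
  · rw [orbEl, if_pos (Fin.ext hfix), primeMap, X_map]
    exact single_mem_twisted hW hmem ht
  · rw [orbEl, if_neg (fun e => hfix (congrArg Fin.val e)), primeMap, map_mul, X_map, X_map]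
    have := pair_mem_twisted hW (q := 2) (s := rootP e6_valid r) (ZMod.castHom dvd_rfl K t) hmem
    rwa [ht] at this

omit [CharP K 2] in
theorem no_conj_regular [Fintype K] (hK : Fintype.card K = 4) (hW : GoodWeyl chevE6)
    {w : Kˣ} (hw : orderOf w = 3) (m : ℕ) {g y : GL chevE6.Idx K} (hg : g ∈ chevE6.group K)
    (hy : y ∈ chevE6.posUnipotent K)
    (hyi : ∀ i, coord hW i y i = ((tripChi w (pRoot hW i) : Kˣ) : K) ^ m)
    (hz : g * y * g⁻¹ ∈ chevE6.posUnipotent K)
    (hzF : ∀ i, coord hW i (g * y * g⁻¹) i = 0 ∨ coord hW i (g * y * g⁻¹) i = 1) : 3 ∣ m := by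
  obtain ⟨C, M, R, h⟩ := ChevSubfield.exists_rootGood (D := chevE6) (by simp)
  have hb := mem_borel_of_regular hW h hg hy (fun i => by
    rw [hyi]; exact pow_ne_zero _ (Units.ne_zero _)) hz
  obtain ⟨u, hu, a, ha, rfl⟩ := (mem_borel_iff hW).1 hb
  have hva : a * y * a⁻¹ ∈ chevE6.posUnipotent K :=
    (Subgroup.mem_normalizer_iff.1 (diag_le_normalizer_pos hW ha) y).1 hy
  rw [diagonalSubgroup_eq_range hW] at ha
  obtain ⟨c, rfl⟩ := ha
  have h1 : ∀ i, ChevFieldAut.chi c (pRoot hW i) * tripChi w (pRoot hW i) ^ m = 1 := fun i => by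
    have e : u * torHom chevE6 K c * y * (u * torHom chevE6 K c)⁻¹ =
        u * (torHom chevE6 K c * y * (torHom chevE6 K c)⁻¹) * u⁻¹ := by group
    have hc := hzF i
    rw [e, coord_conj_pos hW i hu hva] at hc
    rw [show coord hW i (torHom chevE6 K c * y * (torHom chevE6 K c)⁻¹) i =
      (ChevFieldAut.chi c (pRoot hW i) : K) * coord hW i y i from coord_conj_torC hW c i y i,
      hyi] at hc
    apply Units.ext
    rw [Units.val_mul, Units.val_pow_eq_pow_val, Units.val_one]
    exact hc.resolve_left (mul_ne_zero (Units.ne_zero _) (pow_ne_zero _ (Units.ne_zero _)))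
  have hu3 : ∀ x : Kˣ, x ^ 3 = 1 := fun x => by
    classical
    have := pow_card_eq_one (x := x)
    rwa [Fintype.card_units, hK] at this
  obtain ⟨hcar, hn⟩ := trip_functional
  simp only [List.all_eq_true, List.mem_range, beq_iff_eq] at hcar
  let wt : List (Fin chevE6.rank × ℤ) :=
    [(⟨0, by decide⟩, 1), (⟨2, by decide⟩, 2), (⟨4, by decide⟩, 1), (⟨5, by decide⟩, 2)]
  have hprod : (wt.map fun aw => ChevFieldAut.chi c (pRoot hW aw.1) ^ aw.2).prod = 1 := by
    simp only [wt, List.map_cons, List.map_nil, List.prod_cons, List.prod_nil, mul_one,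
      ChevFieldAut.chi, ← Finset.prod_zpow, ← zpow_mul, ← Finset.prod_mul_distrib, ← zpow_add]
    refine Finset.prod_eq_one fun k _ => ?_
    obtain ⟨z, hz⟩ := Int.dvd_of_emod_eq_zero (hcar k k.isLt)
    simp only [List.map_cons, List.map_nil, List.sum_cons, List.sum_nil, add_zero] at hz
    rw [show ∀ x : Kˣ, ∀ e : ℤ, e = 3 * z → x ^ e = 1 from fun x e he => by
      rw [he, _root_.zpow_mul, zpow_ofNat, hu3, one_zpow]]
    rw [← hz, show ((pRoot hW (⟨0, by decide⟩ : Fin chevE6.rank) : Root chevE6) : ℕ) = chevE6.simple 0 from rfl,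
      show ((pRoot hW (⟨2, by decide⟩ : Fin chevE6.rank) : Root chevE6) : ℕ) = chevE6.simple 2 from rfl,
      show ((pRoot hW (⟨4, by decide⟩ : Fin chevE6.rank) : Root chevE6) : ℕ) = chevE6.simple 4 from rfl,
      show ((pRoot hW (⟨5, by decide⟩ : Fin chevE6.rank) : Root chevE6) : ℕ) = chevE6.simple 5 from rfl]
    ring
  have e2 : ∀ i : Fin chevE6.rank, ChevFieldAut.chi c (pRoot hW i) =
      (w ^ (tripN (chevE6.simple i) * m))⁻¹ := fun i => by
    rw [pow_mul]; exact eq_inv_of_mul_eq_one_left (h1 i)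
  simp only [List.map_cons, List.map_nil, List.cons.injEq, and_true] at hn
  obtain ⟨n0, n2, n4, n5⟩ := hn
  simp only [wt, List.map_cons, List.map_nil, List.prod_cons, List.prod_nil, mul_one, e2,
    Fin.val_mk, n0, n2, n4, n5] at hprod
  have h5 : w ^ (5 * m) = 1 := by
    rw [← inv_eq_one, ← hprod]
    simp only [zero_mul, pow_zero, inv_one, one_zpow, one_pow, one_mul, mul_one, zpow_one, zpow_ofNat,
      inv_pow, ← mul_inv, ← pow_mul, ← pow_add]
    congr 2
    ring
  have := orderOf_dvd_of_pow_eq_one h5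
  rw [hw] at this
  exact (Nat.Coprime.dvd_of_dvd_mul_left (by norm_num) this)

end CfsgLib.E6Fold
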