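import Cfsg.Agent.E6Fold.Fold

/-!
The coordinates along the fundamental roots, and a regular unipotent element lies in one Borel
subgroup.
-/

set_option autoImplicit false

namespace CfsgLib.E6Fold

open Cfsg.Lie CfsgLib CfsgLib.Chevalley
open scoped MatrixGroups

variable {D : ChevalleyDatum} {F : Type*} [Field F]

/-- The entries in the Cartan rows of the column of a negative fundamental root. -/
def coord (hW : GoodWeyl D) (i : Fin D.rank) (u : GL D.Idx F) (k : Fin D.rank) : F :=
  (u : Matrix D.Idx D.Idx F) (Sum.inl k) (Sum.inr (pRoot hW i).rev)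

theorem coord_split (hW : GoodWeyl D) (i : Fin D.rank) (t : F) {v : GL D.Idx F}
    (hv : v ∈ rootGen hW.good F (posCompl hW i)) (k : Fin D.rank) :
    coord hW i (X hW.good (pRoot hW i) t * v) k =
      t * ((D.coroot.getD (pRoot hW i : Root D) #[]).getD k 0 : F) := by
  have hlow : IsLower false (v : Matrix D.Idx D.Idx F) :=
    isLower_of_mem (m := half D) hW.good
      ((posUnipotent_eq hW.good).le (rootGen_posCompl_le hW i hv))
  rw [coord, Units.val_mul, coe_X, Matrix.mul_apply, Fintype.sum_sum_type,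
    Finset.sum_eq_zero fun k' _ => by rw [(ChevSubfield.posCompl_entries hW i hv).2 k', mul_zero],
    zero_add, Finset.sum_eq_single (pRoot hW i).rev ?_ (by simp), hlow.1, mul_one,
    xR_entry_coroot hW.good, if_pos rfl]
  intro s _ hs
  rw [xR_entry_coroot hW.good, if_neg hs, zero_mul]

theorem coord_X (hW : GoodWeyl D) (a i : Fin D.rank) (t : F) :
    coord hW i (X hW.good (pRoot hW a) t) i = if a = i then t else 0 := by
  rw [coord, coe_X, xR_entry_coroot hW.good]
  by_cases h : a = i
  · subst h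
    rw [if_pos rfl, if_pos rfl, show ((pRoot hW a : Root D) : ℕ) = D.simple (a : Fin D.rank) from rfl,
      hW.good.coroot_simple a.isLt a.isLt, if_pos rfl, Int.cast_one, mul_one]
  · rw [if_neg h]
    split_ifs with e
    · rw [show ((pRoot hW a : Root D) : ℕ) = D.simple (a : Fin D.rank) from rfl,
        hW.good.coroot_simple a.isLt i.isLt, if_neg (fun e => h (Fin.ext e)), Int.cast_zero, mul_zero]
    · rfl

theorem coord_mul (hW : GoodWeyl D) (i : Fin D.rank) {u v : GL D.Idx F}
    (hu : u ∈ D.posUnipotent F) (hv : v ∈ D.posUnipotent F) (k : Fin D.rank) :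
    coord hW i (u * v) k = coord hW i u k + coord hW i v k := by
  obtain ⟨t, a, ha, rfl⟩ := exists_split_pos' hW i hu
  obtain ⟨s, b, hb, rfl⟩ := exists_split_pos' hW i hv
  rw [show X hW.good (pRoot hW i) t * a * (X hW.good (pRoot hW i) s * b) =
      X hW.good (pRoot hW i) (t + s) *
        ((X hW.good (pRoot hW i) (-s) * a * (X hW.good (pRoot hW i) (-s))⁻¹) * b) by
      rw [← X_inv, ← X_mul]; group,
    coord_split hW i _ (mul_mem (X_conj_posCompl hW i _ ha) hb), coord_split hW i _ ha,
    coord_split hW i _ hb, add_mul]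

theorem coord_conj_pos (hW : GoodWeyl D) (i : Fin D.rank) {u v : GL D.Idx F}
    (hu : u ∈ D.posUnipotent F) (hv : v ∈ D.posUnipotent F) (k : Fin D.rank) :
    coord hW i (u * v * u⁻¹) k = coord hW i v k := by
  have h0 : coord hW i (1 : GL D.Idx F) k = 0 := by
    rw [coord, Units.val_one]; exact Matrix.one_apply_ne (by simp)
  have := coord_mul hW i (mul_mem hu hv) (inv_mem hu) k
  rw [this, coord_mul hW i hu hv, add_comm (coord hW i u k), add_assoc,
    ← coord_mul hW i hu (inv_mem hu), mul_inv_cancel, h0, add_zero]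

theorem coord_conj_torC (hW : GoodWeyl D) (c : Fin D.rank → Fˣ) (i : Fin D.rank) (v : GL D.Idx F)
    (k : Fin D.rank) :
    coord hW i (torC D c * v * (torC D c)⁻¹) k =
      (ChevFieldAut.chi c (pRoot hW i) : F) * coord hW i v k := by
  have e1 : torC D c * X hW.good (pRoot hW i).rev (1 : F) * (torC D c)⁻¹ =
      X hW.good (pRoot hW i).rev ((ChevFieldAut.chi c (pRoot hW i).rev : F) * 1) := by
    rw [ChevFieldAut.torC_mul_X hW.good, mul_inv_cancel_right]
  have h2 : ((torC D c * v * (torC D c)⁻¹ : GL D.Idx F) : Matrix D.Idx D.Idx F) *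
      (torC D c : GL D.Idx F) = (torC D c : GL D.Idx F) * (v : Matrix D.Idx D.Idx F) := by
    rw [← Units.val_mul, ← Units.val_mul, inv_mul_cancel_right]
  have h3 := congrFun (congrFun h2 (Sum.inl k)) (Sum.inr (pRoot hW i).rev)
  rw [ChevFieldAut.coe_torC, Matrix.mul_diagonal, Matrix.diagonal_mul] at h3
  have hwl : (∏ j : Fin D.rank, c j ^ wt D j (Sum.inl k : D.Idx)) = 1 := by simp
  have hwr : (∏ j : Fin D.rank, c j ^ wt D j (Sum.inr (pRoot hW i).rev : D.Idx)) =
      (ChevFieldAut.chi c (pRoot hW i))⁻¹ := by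
    rw [ChevFieldAut.chi, ← Finset.prod_inv_distrib]
    refine Finset.prod_congr rfl fun j _ => ?_
    rw [← _root_.zpow_neg]
    congr 1
    exact hW.good.cartan_rev j (pRoot hW i)
  rw [hwl, hwr, Units.val_one, one_mul] at h3
  rw [coord, coord, ← h3, Units.val_inv_eq_inv_val]
  have := (ChevFieldAut.chi c (pRoot hW i)).ne_zero
  field_simp

theorem coord_conj_borel (hW : GoodWeyl D) (i : Fin D.rank) {b v : GL D.Idx F}
    (hb : b ∈ D.borelSubgroup F) (hv : v ∈ D.posUnipotent F) :
    b * v * b⁻¹ ∈ D.posUnipotent F ∧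
      ∃ x : Fˣ, ∀ k, coord hW i (b * v * b⁻¹) k = x * coord hW i v k := by
  obtain ⟨u, hu, a, ha, rfl⟩ := (mem_borel_iff hW).1 hb
  have hva : a * v * a⁻¹ ∈ D.posUnipotent F :=
    (Subgroup.mem_normalizer_iff.1 (diag_le_normalizer_pos hW ha) v).1 hv
  rw [show u * a * v * (u * a)⁻¹ = u * (a * v * a⁻¹) * u⁻¹ by group]
  refine ⟨mul_mem (mul_mem hu hva) (inv_mem hu), ?_⟩
  rw [diagonalSubgroup_eq_range hW] at ha
  obtain ⟨c, rfl⟩ := ha
  exact ⟨ChevFieldAut.chi c (pRoot hW i), fun k => by
    rw [coord_conj_pos hW i hu hva]; exact coord_conj_torC hW c i v k⟩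

variable {C : Weyl.Cert D.rank} {M : CoxeterMatrix (Fin D.rank)} {R : Weyl.RootTable}

/-- A regular unipotent element lies in one Borel subgroup only. -/
theorem mem_borel_of_regular (hW : GoodWeyl D) (h : Weyl.RootGood C M R) {g y : GL D.Idx F}
    (hg : g ∈ D.group F) (hy : y ∈ D.posUnipotent F) (hreg : ∀ i, coord hW i y i ≠ 0)
    (hgy : g * y * g⁻¹ ∈ D.posUnipotent F) : g ∈ D.borelSubgroup F := by
  obtain ⟨w, hw⟩ := exists_mem_cell hW h hg
  by_cases hw1 : w = 1
  · subst hw1
    rwa [cell_one hW h] at hw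
  exfalso
  obtain ⟨i, v, hwv, -, hlen⟩ :=
    ChevSubfield.exists_goesUp_of_ne_one hW h (show w⁻¹ ≠ 1 by simpa using hw1)
  have hni : ¬ GoesUp hW h i w⁻¹ := by
    rw [goesUp_iff, hwv, ChevSubfield.simple_mul_cancel_left]
    rw [hwv] at hlen
    omega
  rw [GoesUp, inv_inv, not_le] at hni
  obtain ⟨b, hb, b', hb', rfl⟩ := hw
  set n := nW hW h F w
  obtain ⟨hy3, x, hx⟩ := coord_conj_borel hW i hb' hy
  set y3 := b' * y * b'⁻¹ with hy3def
  have hz : n * y3 * n⁻¹ ∈ D.posUnipotent F := by
    have := (coord_conj_borel hW i (inv_mem hb) hgy).1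
    convert this using 1
    rw [hy3def]; group
  set z := n * y3 * n⁻¹ with hzdef
  have hn := col_nW (F := F) hW h w
  have hlowz : IsLower false (z : Matrix D.Idx D.Idx F) :=
    isLower_of_mem (m := half D) hW.good ((posUnipotent_eq hW.good).le hz)
  have hlowy : IsLower false (y3 : Matrix D.Idx D.Idx F) :=
    isLower_of_mem (m := half D) hW.good ((posUnipotent_eq hW.good).le hy3)
  have hv0 : (n : Matrix D.Idx D.Idx F).mulVec
      (Sum.elim (coord hW i y3) fun _ => 0) = 0 := by
    funext a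
    rw [Matrix.mulVec, dotProduct, Fintype.sum_sum_type]
    simp only [Sum.elim_inl, Sum.elim_inr, mul_zero, Finset.sum_const_zero, add_zero, Pi.zero_apply]
    rcases a with k | r
    · have e : (n : Matrix D.Idx D.Idx F) * (y3 : Matrix D.Idx D.Idx F) =
          (z : Matrix D.Idx D.Idx F) * (n : Matrix D.Idx D.Idx F) := by
        rw [← Units.val_mul, ← Units.val_mul, hzdef, inv_mul_cancel_right]
      have e1 := congrFun (congrFun e (Sum.inl k)) (Sum.inr (pRoot hW i).rev)
      rw [Matrix.mul_apply, Matrix.mul_apply, Fintype.sum_sum_type] at e1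
      rw [Finset.sum_eq_zero (s := (Finset.univ : Finset (Root D))) fun s _ => ?_, add_zero] at e1
      · refine e1.trans (Finset.sum_eq_zero fun e _ => ?_)
        by_cases he : (n : Matrix D.Idx D.Idx F) e (Sum.inr (pRoot hW i).rev) = 0
        · rw [he, mul_zero]
        obtain rfl := hn.1 _ e he
        rw [(monBy_nW (F := F) hW h w).apply_rev, hlowz.2 _ _ (by simp) ?_, zero_mul]
        have h2 := hW.good.two_half
        have h3 : ¬ ((h.rootPerm w (pRoot hW i)).rev : ℕ) < half D := by
          rw [Fin.val_rev]; omega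
        simp only [ord, Sum.elim_inl, Sum.elim_inr, key, Bool.false_eq_true, if_false]
        rw [if_neg h3]
        omega
      · by_cases hns : (n : Matrix D.Idx D.Idx F) (Sum.inl k) (Sum.inr s) = 0
        · rw [hns, zero_mul]
        · exact absurd (hn.1 s _ hns) (by simp)
    · refine Finset.sum_eq_zero fun l _ => ?_
      rw [show (n : Matrix D.Idx D.Idx F) (Sum.inr r) (Sum.inl l) = 0 from
        Classical.not_not.1 fun hne => by obtain ⟨_, he⟩ := hn.2 l _ hne; simp at he, zero_mul]
  have hc : coord hW i y3 i = 0 := by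
    have := congrArg ((n⁻¹ : GL D.Idx F) : Matrix D.Idx D.Idx F).mulVec hv0
    rw [Matrix.mulVec_mulVec, ← Units.val_mul, inv_mul_cancel, Units.val_one, Matrix.one_mulVec,
      Matrix.mulVec_zero] at this
    exact congrFun this (Sum.inl i)
  rw [hx i] at hc
  exact mul_ne_zero x.ne_zero (hreg i) hc

end CfsgLib.E6Fold
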